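import Groth.Agent.FlatInj.Core
import Groth.Agent.FlatSpread.Model

/-!
Generic freeness over an irreducible, possibly non-reduced and non-noetherian, base.
-/

universe u

namespace Groth.Agent.GenFreeIrr

open TensorProduct

attribute [local instance] Algebra.TensorProduct.rightAlgebra

/-- A flat finitely presented module is free over a dense open of an irreducible base. -/
theorem exists_free_of_flat {A B : Type u} [CommRing A] [CommRing B] [Algebra A B]
    [Algebra.FinitePresentation A B] (hnil : (nilradical A).IsPrime) (M : Type u) [AddCommGroup M]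
    [Module B M] [Module A M] [IsScalarTower A B M] [Module.FinitePresentation B M] [Module.Flat A M] :
    ∃ t : A, t ∉ nilradical A ∧ Module.Free (Localization.Away t) (Localization.Away t ⊗[A] M) := by
  classical
  obtain ⟨R₀, _, _, S₀, _, _, _, _, _, _, M₀, _, _, _, _, _, _, f, hft, hfS, hfin, -, hpush, hf⟩ :=
    Groth.Agent.FlatSpread.exists_model_module A B M
  haveI := hpush
  haveI : IsNoetherianRing R₀ := Algebra.FiniteType.isNoetherianRing ℤ R₀
  let eM : M ≃ₗ[A] A ⊗[R₀] M₀ :=
    (hf.equiv.symm.restrictScalars A).trans (Algebra.IsPushout.cancelBaseChange R₀ A S₀ B M₀)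
  let q : Ideal R₀ := (nilradical A).comap (algebraMap R₀ A)
  haveI : q.IsPrime := Ideal.IsPrime.comap _
  let R₁ := R₀ ⧸ q
  obtain ⟨f₀, hf₀, hfree, -, -, -⟩ := Groth.Agent.GenFree.generic_freeness (R := R₁) (S := R₁ ⊗[R₀] S₀)
    (M := (R₁ ⊗[R₀] S₀) ⊗[S₀] M₀)
  obtain ⟨f₁, rfl⟩ := Ideal.Quotient.mk_surjective f₀
  let L := Localization.Away (Ideal.Quotient.mk q f₁)
  haveI : Module.Free L (L ⊗[R₁] (R₁ ⊗[R₀] M₀)) :=
    Module.Free.of_equiv (AlgebraTensorModule.congr (LinearEquiv.refl L L)
      (Algebra.IsPushout.cancelBaseChange R₀ R₁ S₀ (R₁ ⊗[R₀] S₀) M₀))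
  refine ⟨algebraMap R₀ A f₁, fun h => hf₀ (Ideal.Quotient.eq_zero_iff_mem.mpr h), ?_⟩
  let A' := Localization.Away (algebraMap R₀ A f₁)
  let J : Ideal A' := q.map (algebraMap R₀ A')
  have hJ : IsNilpotent J := by
    refine (Ideal.FG.isNilpotent_iff_le_nilradical (Ideal.FG.map (IsNoetherian.noetherian q) _)).2 ?_
    refine Ideal.map_le_iff_le_comap.2 fun x hx => ?_
    rw [Ideal.mem_comap, mem_nilradical, IsScalarTower.algebraMap_apply R₀ A A']
    exact (mem_nilradical.1 hx).map _
  haveI : Module.Free (A' ⧸ J) ((A' ⧸ J) ⊗[A'] (A' ⊗[A] M)) := by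
    let R := A' ⧸ J
    have hI : ∀ a ∈ q, algebraMap R₀ R a = 0 := fun a ha => by
      rw [IsScalarTower.algebraMap_apply R₀ A' R]
      exact Ideal.Quotient.eq_zero_iff_mem.2 (Ideal.mem_map_of_mem _ ha)
    letI : Algebra R₁ R := (Ideal.Quotient.lift q (algebraMap R₀ R) hI).toAlgebra
    haveI : IsScalarTower R₀ R₁ R := IsScalarTower.of_algebraMap_eq' rfl
    have hu : IsUnit (algebraMap R₀ R f₁) := by
      rw [IsScalarTower.algebraMap_apply R₀ A' R, IsScalarTower.algebraMap_apply R₀ A A']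
      exact (IsLocalization.Away.algebraMap_isUnit (S := A') (algebraMap R₀ A f₁)).map _
    letI : Algebra L R := (IsLocalization.Away.lift (S := L) (Ideal.Quotient.mk q f₁)
      (g := algebraMap R₁ R) (show IsUnit (algebraMap R₁ R (Ideal.Quotient.mk q f₁)) from hu)).toAlgebra
    haveI : IsScalarTower R₁ L R := IsScalarTower.of_algebraMap_eq (R := R₁) (S := L) (A := R)
      fun x => (IsLocalization.Away.lift_eq _ _ x).symm
    haveI : Module.Free R (R ⊗[L] (L ⊗[R₁] (R₁ ⊗[R₀] M₀))) := inferInstance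
    exact Module.Free.of_equiv
      ((AlgebraTensorModule.cancelBaseChange R₁ L R R (R₁ ⊗[R₀] M₀)).trans
        ((AlgebraTensorModule.cancelBaseChange R₀ R₁ R R M₀).trans
          ((AlgebraTensorModule.cancelBaseChange R₀ A R R M₀).symm.trans
            ((AlgebraTensorModule.congr (LinearEquiv.refl R R) eM.symm).trans
              (AlgebraTensorModule.cancelBaseChange A A' R R M).symm))))
  exact Groth.Agent.FlatInj.free_of_nilpotent hJ _

/-- Flatness at the primes over `p` spreads to a localisation of the base. -/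
theorem exists_flat_away {A B : Type u} [CommRing A] [CommRing B] [Algebra A B]
    [Algebra.FinitePresentation A B] (p : Ideal A) [p.IsPrime] (M : Type u) [AddCommGroup M]
    [Module B M] [Module A M] [IsScalarTower A B M] [Module.FinitePresentation B M]
    (h : ∀ q : PrimeSpectrum B, q.asIdeal.comap (algebraMap A B) ≤ p →
      Module.Flat A (LocalizedModule q.asIdeal.primeCompl M)) :
    ∃ t : A, t ∉ p ∧ ∀ q : PrimeSpectrum B, algebraMap A B t ∉ q.asIdeal →
      Module.Flat A (LocalizedModule q.asIdeal.primeCompl M) := by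
  classical
  have hU := Groth.Agent.FlatSpread.isOpen_flatLocus (R := A) (S := B) (M := M)
  obtain ⟨K, hK⟩ := (PrimeSpectrum.isOpen_iff _).1 hU
  set G : Submonoid B := p.primeCompl.map (algebraMap A B)
  by_cases hd : ∀ g ∈ G, g ∉ Ideal.span K
  · obtain ⟨P, hP, hKP, hPG⟩ := Ideal.exists_le_prime_disjoint (Ideal.span K) G
      (Set.disjoint_left.2 fun x hx hxG => hd x hxG hx)
    let q : PrimeSpectrum B := ⟨P, hP⟩
    have hq : q ∈ {q : PrimeSpectrum B | Module.Flat A (LocalizedModule q.asIdeal.primeCompl M)} := by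
      refine h q fun a ha => ?_
      by_contra hap
      exact Set.disjoint_left.1 hPG ha ⟨a, hap, rfl⟩
    exact absurd hq (show q ∈ _ᶜ from hK ▸ (PrimeSpectrum.mem_zeroLocus _ _).2
      (Ideal.span_le.1 hKP))
  · push_neg at hd
    obtain ⟨g, ⟨t, ht, rfl⟩, hgK⟩ := hd
    refine ⟨t, ht, fun q hq => ?_⟩
    by_contra hn
    have hq' : q ∈ PrimeSpectrum.zeroLocus K := hK ▸ (hn : q ∈ _ᶜ)
    exact hq (Ideal.span_le.2 ((PrimeSpectrum.mem_zeroLocus _ _).1 hq') hgK)

end Groth.Agent.GenFreeIrr
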